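import Cfsg.Agent.Lib.J4Cent62.Data.Samples
import Cfsg.Agent.Lib.J4Cent62.Hom

/-! Checks on the elements of large prime order. -/

set_option autoImplicit false
set_option maxRecDepth 100000
set_option maxHeartbeats 4000000
set_option exponentiation.threshold 13000

namespace Cfsg.Agent.Lib.J4Cent62

theorem x23_ok : (okP x23 && Nat.beq (powCode (evFirst x23word) x23pow) x23.1
    && Nat.beq (powCode x23.1 23) J4Rep.one && !(sameB x23.1 J4Rep.one)
    && fixCert [x23.1] [x23A] x23P x23R 4) = true := by decide +kernel

theorem x29_ok : (okP x29 && Nat.beq (powCode (evFirst x29word) x29pow) x29.1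
    && Nat.beq (powCode x29.1 29) J4Rep.one && !(sameB x29.1 J4Rep.one)
    && fixCert [x29.1] [x29A] x29P x29R 4) = true := by decide +kernel

theorem x31_ok : (okP x31 && Nat.beq (powCode (evFirst x31word) x31pow) x31.1
    && Nat.beq (powCode x31.1 31) J4Rep.one && !(sameB x31.1 J4Rep.one)
    && fixCert [x31.1] [x31A] x31P x31R 4) = true := by decide +kernel

theorem x37_ok : (okP x37 && Nat.beq (powCode (evFirst x37word) x37pow) x37.1
    && Nat.beq (powCode x37.1 37) J4Rep.one && !(sameB x37.1 J4Rep.one)
    && fixCert [x37.1] [x37A] x37P x37R 4) = true := by decide +kernel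

theorem x43_ok : (okP x43 && Nat.beq (powCode (evFirst x43word) x43pow) x43.1
    && Nat.beq (powCode x43.1 43) J4Rep.one && !(sameB x43.1 J4Rep.one)
    && fixCert [x43.1] [x43A] x43P x43R 4) = true := by decide +kernel

end Cfsg.Agent.Lib.J4Cent62
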