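import Cfsg.Agent.Lib.J4Cent62.Data.Qbar
import Cfsg.Agent.Lib.J4Cent62.Data.Orbits
import Cfsg.Agent.Lib.J4Cent62.QCode

/-! Checks on the orbits in `Q` modulo its centre and in the fixed space. -/

set_option autoImplicit false
set_option maxRecDepth 100000
set_option maxHeartbeats 4000000
set_option exponentiation.threshold 13000

namespace Cfsg.Agent.Lib.J4Cent62

/-- The rows modulo the centre. -/
def qBar : List (List ℕ) := qRows.map fun r => r.map (· % 4096)

theorem qTree_ok : ((qTree.zip (List.range 4095)).all fun p =>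
    (entry 4 p.1).1.all (fun j => Nat.blt j 3) && Nat.blt (entry 4 p.1).2 qRoots.length &&
      Nat.beq (apWord qBar (entry 4 p.1).1 (qRoots.getD (entry 4 p.1).2 0)) (p.2 + 1)) = true
    ∧ qTree.length = 4095 := by decide +kernel

theorem qSpan_ok : ((qSpan.zip qRoots).all fun p =>
    Nat.beq p.1.length 12 && (p.1.zip (List.range 12)).all fun q =>
      (q.1.all fun w => (decode 4 64 w).all fun j => Nat.blt j 3) &&
      Nat.beq ((q.1.map fun w => apWord qBar (decode 4 64 w) p.2).foldr Nat.xor 0) (2 ^ q.2)) = true
    ∧ qSpan.length = qRoots.length := by decide +kernel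

theorem qSpan_M : (Nat.beq qSpanM.length 12 && (qSpanM.zip (List.range 12)).all fun q =>
      (q.1.all fun w => (decode 4 64 w).all fun j => Nat.blt j 2) &&
      Nat.beq ((q.1.map fun w => apWord qBar (decode 4 64 w) (qRoots.getD 0 0)).foldr Nat.xor 0)
        (2 ^ q.2)) = true := by decide +kernel

theorem qFix_ok : (qStab.all (fun w => (decode 4 64 w).all (fun j => Nat.blt j 2) &&
      Nat.beq (apWord qBar (decode 4 64 w) (qRoots.getD 0 0)) (qRoots.getD 0 0)) &&
    (List.range 4096).all fun c =>
      !(qStab.all fun w => Nat.beq (apWord qBar (decode 4 64 w) c) c) || qFix.contains c) = true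
    ∧ qFix.length ≤ 5 := by decide +kernel

theorem sTree_ok : ((sTree.zip (List.range 1023)).all fun p =>
    (entry 4 p.1).1.all (fun j => Nat.blt j 3) &&
      Nat.beq (apWord sActs (entry 4 p.1).1 (sRoots.getD (entry 4 p.1).2 0)) (p.2 + 1)) = true
    ∧ sTree.length = 1023 ∧ sRoots.getD 0 0 = 1 := by decide +kernel

theorem sTree_sizes : ((List.range 8).all fun s => !(Nat.testBit s 0) ||
    [77, 407, 693, 1023].contains
      ((sTree.filter fun n => Nat.testBit s (n % 4)).length)) = true
    ∧ (sTree.all fun n => Nat.blt (n % 4) 3) = true := by decide +kernel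

end Cfsg.Agent.Lib.J4Cent62
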