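import Cfsg.Agent.Lib.J4Cent62.Data.Chains
import Cfsg.Agent.Lib.J4Cent62.Data.Elems
import Cfsg.Agent.Lib.J4Cent62.Data.Fixed
import Cfsg.Agent.Lib.J4Cent62.Data.Orbits
import Cfsg.Agent.Lib.J4Cent62.Cert
import Cfsg.Agent.Lib.J4Cent62.NormalForm

/-! Checks on the fixed space of `Q` and on the orbit of length 77. -/

set_option autoImplicit false
set_option maxRecDepth 100000
set_option maxHeartbeats 4000000
set_option exponentiation.threshold 13000

namespace Cfsg.Agent.Lib.J4Cent62

open Cfsg.Agent.Lib.Computation

theorem fixQ_ok : fixCert ((qList ++ [ez]).map Prod.fst) sAs sP sRows 10 = true := by decide +kernel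

theorem fixU_ok : fixCert ((qList ++ [ez] ++ lm1.gens).map Prod.fst) uAs uP uRows 1 = true := by
  decide +kernel

theorem fixU_vals : (Nat.beq (vm 0 uRows) 0 && Nat.beq (vm 1 uRows) lm0base
    && !(Nat.beq lm0base 0)) = true := by decide +kernel

theorem sRows_inv : ((List.range 1024).all fun k => Nat.beq (vm (vm k sRows) sInv) k) = true := by
  decide +kernel

theorem sRows_orbit : ((List.range 10).all fun i =>
    lm0.orb.toList.any fun e => Nat.beq e.point (J4Rep.lane sRows i)) = true := by decide +kernel

theorem N_fix : ((rep.topGens (cm7 : List (Level (ℕ × ℕ)))).all fun g =>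
    lm0.orb.toList.all fun e => Nat.beq (vm e.point g.1) e.point) = true := by decide +kernel

theorem sActs_ok : ((List.range 1024).all fun k =>
    ([sa, sb, ea].zip sActs).all fun p =>
      Nat.beq (vm (vm k sRows) p.1.1) (vm (ap p.2 k) sRows)) = true ∧ sActs.length = 3 := by
  decide +kernel

end Cfsg.Agent.Lib.J4Cent62
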