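import Cfsg.Agent.Lib.J4Cent62.Data.Chains
import Cfsg.Agent.Lib.J4Cent62.Data.Elems
import Cfsg.Agent.Lib.J4Cent62.Data.Residual
import Cfsg.Agent.Lib.J4Cent62.Hom

/-! Checks on the generators. -/

set_option autoImplicit false
set_option maxRecDepth 100000
set_option maxHeartbeats 4000000
set_option exponentiation.threshold 13000

namespace Cfsg.Agent.Lib.J4Cent62

open Cfsg.Agent.Lib.Computation

theorem oks_gens : ([sa, sb, ea, ez, eR].all okP) = true := by decide +kernel

theorem words_sa : Nat.beq (powCode (evFirst wa) 6) sa.1 = true := by decide +kernel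

theorem words_sb : Nat.beq (powCode (evFirst wb) 1) sb.1 = true := by decide +kernel

theorem words_ea : Nat.beq (evFirst wo) ea.1 = true := by decide +kernel

theorem seven_gens : (Nat.beq (powCode sa.1 7) J4Rep.one && Nat.beq (powCode sb.1 7) J4Rep.one &&
    Nat.beq (mulP ez ez).1 J4Rep.one && !(sameB ez.1 J4Rep.one)) = true := by decide +kernel

theorem comm_gens : ([sa, sb, ea].all fun g => Nat.beq (mulP g ez).1 (mulP ez g).1) = true := by
  decide +kernel

theorem outer_fix : ([lm0base, lm1base, lm2base, lm3base, lm4base, lm5base].all fun b =>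
    Nat.beq (vm b eR.1) b) = true := by decide +kernel

theorem outer_move : (!(Nat.beq (vm lm6base eR.1) lm6base)
    && lm0.orb.toList.any (fun e => Nat.beq e.point lm6base)
    && Nat.beq lm6.orb.toList.length 1) = true := by decide +kernel

theorem outer_orbit : (lm0.orb.toList.all fun e =>
    lm0.orb.toList.any fun e' => Nat.beq e'.point (vm e.point ea.1)) = true := by decide +kernel

end Cfsg.Agent.Lib.J4Cent62
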