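import Cfsg.Agent.Lib.J4Cent62.Data.Chains
import Cfsg.Agent.Lib.J4Cent62.Data.Elems
import Cfsg.Agent.Lib.J4Cent62.Data.Homology
import Cfsg.Agent.Lib.J4Cent62.Data.Fixed
import Cfsg.Agent.Lib.J4Cent62.Cert

/-! Checks on the homology of `z + 1`. -/

set_option autoImplicit false
set_option maxRecDepth 100000
set_option maxHeartbeats 4000000
set_option exponentiation.threshold 13000

namespace Cfsg.Agent.Lib.J4Cent62

open Cfsg.Agent.Lib.Computation

theorem triv_ok : (((qList ++ [ez]).zip tCerts).all fun p => trivCert ez.1 p.1.1 p.2.1 p.2.2) = true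
    ∧ tCerts.length = 13 := by decide +kernel

theorem sa_nontriv : (killCert ez.1 saL && Nat.beq (vm saW ez.1) saW &&
    Nat.beq (vm (Nat.xor (vm saW sa.1) saW) saL) 1) = true := by decide +kernel

theorem ew_nontriv : (okP ew && killCert ez.1 ewL && Nat.beq (vm ewW ez.1) ewW &&
    Nat.beq (vm (Nat.xor (vm ewW ew.1) ewW) ewL) 1 && rep.sift cm7 ew) = true := by decide +kernel

theorem wide_ok : (killCert ez.1 wideL && (List.range 32).all fun i =>
    Nat.beq (vm (vm i wideRows) ez.1) (vm i wideRows) && Nat.beq (vm (vm i wideRows) wideL) i) =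
    true := by decide +kernel

end Cfsg.Agent.Lib.J4Cent62
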