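import Cfsg.Agent.Lib.J4Cent62.Data.Chains

/-! Validity of level 0 of the chain of M. -/

set_option autoImplicit false
set_option maxRecDepth 100000
set_option maxHeartbeats 4000000
set_option exponentiation.threshold 13000

namespace Cfsg.Agent.Lib.J4Cent62

open Cfsg.Agent.Lib.Computation

theorem lm0_closed2 : ((lm0.orb.toList.drop 40).take 20).all (rep.checkClosed lm0 (cm1 : List (Level (ℕ × ℕ)))) = true := by decide +kernel

end Cfsg.Agent.Lib.J4Cent62
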