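import Cfsg.Agent.Lib.J4Cent62.Check.M0a
import Cfsg.Agent.Lib.J4Cent62.Check.M0b
import Cfsg.Agent.Lib.J4Cent62.Check.M0c
import Cfsg.Agent.Lib.J4Cent62.Check.M0d

/-! Validity of level 0 of the chain of M. -/

set_option autoImplicit false
set_option maxRecDepth 100000
set_option maxHeartbeats 4000000
set_option exponentiation.threshold 13000

namespace Cfsg.Agent.Lib.J4Cent62

open Cfsg.Agent.Lib.Computation

theorem lm0_head : (rep.ptOk lm0.base && lm0.gens.all rep.ok
    && (match lm0.orb.find lm0.base with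
        | some e => rep.beq e.fwd rep.one
        | none => false)
    && isInc (lm0.orb.toList.map Entry.point)
    && lm0.orb.toList.all (rep.checkEntry lm0)
    && Nat.beq lm0.orb.toList.length 77
    && (rep.topGens (cm1 : List (Level (ℕ × ℕ)))).all (fun s => Nat.beq (rep.act s lm0.base) lm0.base
        && lm0.gens.any (fun t => rep.beq t s))) = true := by decide +kernel

theorem all_chunks {α : Type*} (f : α → Bool) : ∀ (k sz : ℕ) (l : List α), l.length ≤ k * sz →
    (∀ i < k, ((l.drop (sz * i)).take sz).all f = true) → l.all f = true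
  | 0, sz, l, hl, _ => by
    rw [List.length_eq_zero_iff.1 (by omega : l.length = 0)]; rfl
  | k + 1, sz, l, hl, h => by
    rw [← List.take_append_drop sz l, List.all_append, Bool.and_eq_true]
    refine ⟨by simpa using h 0 (by omega), all_chunks f k sz _ (by rw [List.length_drop]; rw [Nat.add_mul, one_mul] at hl; omega) fun i hi => ?_⟩
    rw [List.drop_drop, show sz + sz * i = sz * (i + 1) by ring]
    exact h (i + 1) (by omega)

theorem lm0_ok : rep.checkLevel lm0 (cm1 : List (Level (ℕ × ℕ))) = true := by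
  have h := lm0_head
  simp only [Bool.and_eq_true] at h
  obtain ⟨⟨⟨⟨⟨⟨h1, h2⟩, h3⟩, h4⟩, h5⟩, h6⟩, h7⟩ := h
  simp only [Rep.checkLevel, Bool.and_eq_true]
  refine ⟨⟨⟨⟨⟨⟨h1, h2⟩, h3⟩, h4⟩, h5⟩, all_chunks _ 4 20 _ ?_ ?_⟩, h7⟩
  · exact (Nat.eq_of_beq_eq_true h6).le.trans (by norm_num)
  · intro i hi
    interval_cases i
    · exact lm0_closed0
    · exact lm0_closed1
    · exact lm0_closed2
    · exact lm0_closed3

end Cfsg.Agent.Lib.J4Cent62
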