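import Cfsg.Agent.Lib.J4Cent62.Data.Chains

/-! Validity of the chain of Q. -/

set_option autoImplicit false
set_option maxRecDepth 100000
set_option maxHeartbeats 4000000
set_option exponentiation.threshold 13000

namespace Cfsg.Agent.Lib.J4Cent62

open Cfsg.Agent.Lib.Computation

theorem lq0_ok : rep.checkLevel lq0 (cq1 : List (Level (ℕ × ℕ))) = true := by decide +kernel

theorem lq1_ok : rep.checkLevel lq1 (cq2 : List (Level (ℕ × ℕ))) = true := by decide +kernel

theorem lq2_ok : rep.checkLevel lq2 (cq3 : List (Level (ℕ × ℕ))) = true := by decide +kernel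

theorem lq3_ok : rep.checkLevel lq3 (cq4 : List (Level (ℕ × ℕ))) = true := by decide +kernel

theorem lq4_ok : rep.checkLevel lq4 (cq5 : List (Level (ℕ × ℕ))) = true := by decide +kernel

theorem lq5_ok : rep.checkLevel lq5 ([] : List (Level (ℕ × ℕ))) = true := by decide +kernel

end Cfsg.Agent.Lib.J4Cent62
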