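import Cfsg.Agent.Lib.J4Cent62.Data.Chains
import Cfsg.Agent.Lib.J4Cent62.Data.Elems
import Cfsg.Agent.Lib.J4Cent62.Data.Fixed
import Cfsg.Agent.Lib.J4Cent62.Data.Qbar
import Cfsg.Agent.Lib.J4Cent62.Data.QTop
import Cfsg.Agent.Lib.J4Cent62.QCode

/-! Checks on the normal form in `Q`. -/

set_option autoImplicit false
set_option maxRecDepth 100000
set_option maxHeartbeats 4000000
set_option exponentiation.threshold 13000

namespace Cfsg.Agent.Lib.J4Cent62

open Cfsg.Agent.Lib.Computation

theorem q_mem : ((qList ++ [ez]).all fun q => okP q && rep.sift cq0 q) = true := by decide +kernel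

theorem q_basis : ((qList.all fun q => Nat.beq (mulP ez q).1 (mulP q ez).1
    && relP ez (mulP q q) (J4Rep.one, J4Rep.one))
    && qList.all fun q => qList.all fun r => relP ez (mulP q r) (mulP r q)) = true := by decide +kernel

theorem q_top : (Nat.beq (rep.topGens (cq0 : List (Level (ℕ × ℕ)))).length qTop.length &&
    ((rep.topGens (cq0 : List (Level (ℕ × ℕ)))).zip qTop).all fun p =>
      relP ez p.1 (prodP qList (p.2 % 4096))) = true := by decide +kernel

theorem q_conj : (Nat.beq qRows.length 3 && ([sa, sb, ea].zip qRows).all fun p =>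
    Nat.beq p.2.length 12 && (qList.zip p.2).all fun q =>
      relP ez (mulP (mulP p.1 q.1) (swapP p.1)) (prodP qList (q.2 % 4096))) = true := by decide +kernel

theorem q_noncomm : (qList.any fun q => qList.any fun r =>
    !(sameB (mulP q r).1 (mulP r q).1)) = true := by decide +kernel

theorem q_le : ((rep.topGens (cq0 : List (Level (ℕ × ℕ)))).all fun q => rep.sift cm7 q) = true := by
  decide +kernel

theorem orders_ok : rep.order (cm0 : List (Level (ℕ × ℕ))) = 10899947520 ∧
    rep.order (cm7 : List (Level (ℕ × ℕ))) = 24576 ∧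
    rep.order (cq0 : List (Level (ℕ × ℕ))) = 8192 := by decide +kernel

end Cfsg.Agent.Lib.J4Cent62
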