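import Cfsg.Agent.Lib.J4Cent62.Check.Gens

/-! The generators and some elements sift into the chains; the program yields the strong generators. -/

set_option autoImplicit false
set_option maxRecDepth 100000
set_option maxHeartbeats 4000000
set_option exponentiation.threshold 13000

namespace Cfsg.Agent.Lib.J4Cent62

open Cfsg.Agent.Lib.Computation

theorem sift_gens : ([sa, sb, ez, mulP ea ea, mulP (mulP ea sa) (swapP ea),
    mulP (mulP ea sb) (swapP ea), mulP eR (swapP ea)].all fun g => rep.sift cm0 g) = true := by
  decide +kernel

theorem outer_out : rep.siftFail cm0 ea 0 = true := by decide +kernel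

theorem prog_ok : rep.runSteps prog ([sa, sb] : List (ℕ × ℕ)) (fun els =>
    (rep.topGens cm0).all (fun s => els.any (fun t => rep.beq t s))) = true := by decide +kernel

end Cfsg.Agent.Lib.J4Cent62
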