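import Cfsg.Agent.Lib.J4Cent62.Data.Chains
import Cfsg.Agent.Lib.J4Cent62.Data.Orbits
import Cfsg.Agent.Lib.J4Cent62.QCode

/-! Checks on the orbits of a point stabiliser on the orbit of length 77. -/

set_option autoImplicit false
set_option maxRecDepth 100000
set_option maxHeartbeats 4000000
set_option exponentiation.threshold 13000

namespace Cfsg.Agent.Lib.J4Cent62

/-- Follow a word in the stabiliser. -/
def subWord : List ℕ → ℕ → ℕ
  | [], v => v
  | j :: w, v => subWord w (vm v (lm1.gens.getD j (J4Rep.one, J4Rep.one)).1)

theorem sub_ok : ((subTree.zip lm0.orb.toList).all fun p =>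
    (entry subBase p.1).1.all (fun j => Nat.blt j lm1.gens.length) &&
      Nat.beq (subWord (entry subBase p.1).1 (subRoots.getD (entry subBase p.1).2 0)) p.2.point) = true
    ∧ subTree.length = 77 ∧ subRoots.getD 0 0 = lm0base := by decide +kernel

theorem sub_sizes : ((List.range 8).all fun s => !(Nat.testBit s 0) ||
    [1, 17, 61, 77].contains ((subTree.filter fun n => Nat.testBit s (n % 4)).length)) = true
    ∧ (subTree.all fun n => Nat.blt (n % 4) 3) = true := by decide +kernel

end Cfsg.Agent.Lib.J4Cent62
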